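import Mathlib
import Cfsg.Agent.Lib.MultC.ModExt
import Cfsg.Agent.Lib.Mathieu.Syl2

/-! The 11-dimensional code and cocode modules of `M23`. -/

set_option autoImplicit false
set_option maxRecDepth 100000

namespace CfsgLib.MultC.H2

open CfsgLib.Comput CfsgLib.MultC.ModExt CfsgLib.Golay CfsgLib.Mathieu Cfsg Cfsg.Spor Finset Multiplicative
open scoped Pointwise

/-- binary words -/
abbrev W : Type := GolayPt → ZMod 2

/-- the word of a mask -/
def μ (m : ℕ) : W := ind (ofMask m)

theorem μ_xor (a b : ℕ) : μ (a ^^^ b) = μ a + μ b := by rw [μ, ofMask_xor, ind_symmDiff]; rfl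

theorem μ_zero : μ 0 = 0 := by funext p; simp [μ, ofMask_zero, ind]

theorem ind_comp (σ : P24) (s : Finset GolayPt) : ind s ∘ ⇑σ⁻¹ = ind (σ • s) := by
  funext p
  have : σ⁻¹ p ∈ s ↔ p ∈ σ • s := by rw [← apply_mem_smul_iff (g := σ)]; simp
  simp only [Function.comp_apply, ind, this]

theorem μ_comp (σ : P24) (m : ℕ) : μ m ∘ ⇑σ⁻¹ = μ (img (code σ) m) := by rw [μ, ind_comp, smul_ofMask]; rfl

theorem comp_mem {σ : P24} (h : σ ∈ M24) {w : W} (hw : w ∈ golayCode) : w ∘ ⇑σ⁻¹ ∈ golayCode := by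
  rw [← ind_support₂ w, ind_comp, ← mem_codeSets_iff]
  exact smul_mem_codeSets h (support₂_mem_codeSets.2 hw)

theorem μ_mem {m : ℕ} (h : isCode m = true) : μ m ∈ golayCode := mem_codeSets_iff.1 (mem_of_isCode h)

theorem μ_pt (m : ℕ) {i : ℕ} (hi : i < 24) : μ m (pt i) = if m.testBit i then 1 else 0 := by
  simp only [μ, ind, pt_mem_ofMask hi]

theorem W_add_self (v : W) : v + v = 0 := by
  rw [← two_smul (ZMod 2) v, show (2 : ZMod 2) = 0 from rfl, zero_smul]

theorem dec2_μ (l : List ℕ) (x : ℕ) : dec2 l.length (fun k => μ (l.getD k 0)) x 0 = μ (encL l x) := by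
  induction l generalizing x with
  | nil => rw [encL_nil, μ_zero]; rfl
  | cons b l ih =>
    rw [encL_cons, μ_xor, ← ih, dec2, dec2, List.length_cons, sum_range_succ', add_comm]
    congr 1
    · rw [Nat.and_one_is_mod, Nat.zero_mul, Nat.testBit_zero]
      rcases Nat.mod_two_eq_zero_or_one x with h | h <;> simp [h, μ_zero]
    · refine sum_congr rfl fun k _ => ?_
      simp only [Nat.testBit_shiftRight, Nat.zero_mul, Nat.zero_add, add_comm 1 k, List.getD_cons_succ]

theorem map_dec2 {V V' : Type*} [AddCommGroup V] [AddCommGroup V'] (F : V →+ V') (d : ℕ) (e : ℕ → V) (x c : ℕ) :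
    F (dec2 d e x c) = dec2 d (fun k => F (e k)) x c := by
  rw [dec2, dec2, map_sum]
  refine sum_congr rfl fun k _ => ?_
  split_ifs
  · rfl
  · exact map_zero F

theorem fix_none (σ : M23) : (σ : P24)⁻¹ none = none := (σ⁻¹).2.2

/-! ### the code module -/

/-- code words which vanish at the extra point -/
def cdS : Submodule (ZMod 2) W := golayCode ⊓ LinearMap.ker (LinearMap.proj (R := ZMod 2) none)

/-- the code module -/
def Cd : Type := cdS

instance : AddCommGroup Cd := inferInstanceAs (AddCommGroup cdS)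
instance : Module (ZMod 2) Cd := inferInstanceAs (Module (ZMod 2) cdS)

instance : DistribMulAction M23 Cd where
  smul σ v := ⟨v.1 ∘ ⇑(σ : P24)⁻¹, comp_mem σ.2.1 v.2.1, (congrArg v.1 (fix_none σ)).trans v.2.2⟩
  one_smul _ := rfl
  mul_smul _ _ _ := rfl
  smul_zero _ := rfl
  smul_add _ _ _ := rfl

/-- the inclusion -/
def Cd.val : Cd →+ W := cdS.subtype.toAddMonoidHom

/-- basis of the code module, dual basis of the cocode module -/
def bm : List ℕ := [5279, 10558, 18147, 36294, 69395, 133817, 262637, 525274, 1050548, 2101096, 4196943]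

theorem bm_ok : ∀ k < 11, isCode (bm.getD k 0) = true ∧ (bm.getD k 0).testBit 23 = false := by decide +kernel

theorem bm_mem (k : ℕ) : μ (bm.getD k 0) ∈ cdS := by
  by_cases hk : k < 11
  · refine ⟨μ_mem (bm_ok k hk).1, ?_⟩
    change μ _ none = 0
    rw [← pt_23, μ_pt _ (by norm_num), (bm_ok k hk).2]; rfl
  · rw [List.getD_eq_default _ _ (not_lt.1 hk), μ_zero]; exact zero_mem _

/-- basis of the code module -/
def eCd (k : ℕ) : Cd := ⟨μ (bm.getD k 0), bm_mem k⟩

theorem dec_Cd (x : ℕ) : Cd.val (dec2 11 eCd x 0) = μ (encL bm x) := (map_dec2 _ _ _ _ _).trans (dec2_μ bm x)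

theorem basCd : Bas 11 eCd := by
  refine Bas.of_dual (by norm_num) (fun v => ?_)
    (fun k => (Pi.evalAddMonoidHom (fun _ => ZMod 2) (pt (12 + k))).comp Cd.val) fun k hk j hj => ?_
  · obtain ⟨k, hk, h⟩ := exists_cw (support₂_mem_codeSets.2 v.2.1)
    have h1 : v.1 = μ (cw k) := by rw [μ, h, ind_support₂]
    have h2 : μ (cw k) (pt 23) = 0 := h1 ▸ v.2.2
    have h3 := of_allLT (n := 4096) (f := fun k => Bool.or (Golay.tb (cw k) 23)
      (Nat.beq (cw k) (encL bm (Nat.shiftRight (cw k) 12)))) (by decide +kernel) hk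
    rw [μ_pt _ (by norm_num)] at h2
    rw [Bool.or_eq_true, Golay.tb_eq] at h3
    refine ⟨cw k >>> 12, Subtype.ext (h1.trans (Eq.trans ?_ (dec_Cd _).symm))⟩
    rcases h3 with h3 | h3
    · rw [if_pos h3] at h2; exact absurd h2 one_ne_zero
    · exact congrArg μ (Nat.eq_of_beq_eq_true h3)
  · change μ _ _ = _
    rw [μ_pt _ (by omega)]
    revert k j
    decide +kernel

/-- the columns `M` give the action of the permutation with code `a` -/
noncomputable def actCd (a : ℕ) (M : List ℕ) : Bool :=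
  band (ok2 11 M) (allLt (fun k => Nat.beq (img a (Comput.nth 0 bm k)) (encL bm (Comput.nth 0 M k))) 11)

theorem act_Cd {σ : M23} {M : List ℕ} (h : actCd (code σ) M = true) : Act2 11 eCd M σ := by
  obtain ⟨h1, h2⟩ := band_eq_true.1 h
  refine ⟨(ok2_sound h1).1, (ok2_sound h1).2, fun k hk => Subtype.ext (Eq.trans ?_ (dec_Cd _).symm)⟩
  have := Nat.eq_of_beq_eq_true (allLt_sound h2 k hk)
  rw [nth_eq_getD, nth_eq_getD] at this
  rw [← this, ← μ_comp]
  rfl

/-! ### the cocode module -/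

/-- the code together with the unit vector at the extra point -/
def coK : Submodule (ZMod 2) W where
  carrier := {w | w ∈ golayCode ∨ w + Pi.single none 1 ∈ golayCode}
  zero_mem' := Or.inl (zero_mem _)
  add_mem' := by
    rintro a b (ha | ha) (hb | hb)
    · exact Or.inl (add_mem ha hb)
    · exact Or.inr (by rw [add_assoc]; exact add_mem ha hb)
    · exact Or.inr (by rw [add_right_comm]; exact add_mem ha hb)
    · refine Or.inl ?_
      have := add_mem ha hb
      rwa [add_add_add_comm, W_add_self, add_zero] at this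
  smul_mem' c w h := by
    rcases zmod2_eq_zero_or_one c with rfl | rfl
    · rw [zero_smul]; exact Or.inl (zero_mem _)
    · rw [one_smul]; exact h

theorem single_eq : (Pi.single none 1 : W) = μ (2 ^ 23) := by
  rw [μ, show 2 ^ 23 = 2 ^ ix none from rfl, ofMask_two_pow]
  funext p
  simp [ind, Pi.single_apply]

theorem comp_mem_coK (σ : M23) {w : W} (h : w ∈ coK) : w ∘ ⇑(σ : P24)⁻¹ ∈ coK := by
  refine h.imp (comp_mem σ.2.1) fun h => ?_
  have h1 := comp_mem σ.2.1 h
  have h2 : (Pi.single none 1 : W) ∘ ⇑(σ : P24)⁻¹ = Pi.single none 1 := by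
    funext p
    have : (σ : P24)⁻¹ p = none ↔ p = none := by
      conv_lhs => rw [← fix_none σ]
      exact (σ : P24)⁻¹.injective.eq_iff
    simp only [Function.comp_apply, Pi.single_apply, this]
  rw [← h2]
  exact h1

/-- the cocode module -/
def Co : Type := W ⧸ coK

noncomputable instance : AddCommGroup Co := inferInstanceAs (AddCommGroup (W ⧸ coK))
noncomputable instance : Module (ZMod 2) Co := inferInstanceAs (Module (ZMod 2) (W ⧸ coK))

/-- the projection -/
def Co.mk : W →+ Co := coK.mkQ.toAddMonoidHom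

theorem Co.surj (v : Co) : ∃ w, Co.mk w = v := coK.mkQ_surjective v

theorem Co.mk_eq_zero {w : W} : Co.mk w = 0 ↔ w ∈ coK := Submodule.Quotient.mk_eq_zero coK

noncomputable instance : DistribMulAction M23 Co where
  smul σ := coK.mapQ coK (LinearMap.funLeft (ZMod 2) (ZMod 2) ⇑(σ : P24)⁻¹) fun _ h => comp_mem_coK σ h
  one_smul v := by obtain ⟨w, rfl⟩ := v.surj; rfl
  mul_smul _ _ v := by obtain ⟨w, rfl⟩ := v.surj; rfl
  smul_zero _ := map_zero (coK.mapQ coK _ _)
  smul_add _ := map_add (coK.mapQ coK _ _)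

theorem Co.smul_mk (σ : M23) (w : W) : σ • Co.mk w = Co.mk (w ∘ ⇑(σ : P24)⁻¹) := rfl

/-- basis of the cocode module -/
def um : List ℕ := [4096, 8192, 16384, 32768, 65536, 131072, 262144, 524288, 1048576, 2097152, 4194304]

/-- basis of the cocode module -/
noncomputable def eCo (k : ℕ) : Co := Co.mk (μ (um.getD k 0))

theorem dec_Co (x : ℕ) : dec2 11 eCo x 0 = Co.mk (μ (encL um x)) :=
  (map_dec2 _ _ _ _ _).symm.trans (congrArg Co.mk (dec2_μ um x))

/-- the masks are equal in the cocode -/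
noncomputable def eqCo (a b : ℕ) : Bool :=
  force (Nat.xor a b) fun c => Bool.or (isCode c) (isCode (Nat.xor c 8388608))

theorem mk_eq_of_eqCo {a b : ℕ} (h : eqCo a b = true) : Co.mk (μ a) = Co.mk (μ b) := by
  rw [eqCo, force_eq, Bool.or_eq_true] at h
  have : Co.mk (μ (a ^^^ b)) = 0 := Co.mk_eq_zero.2 (h.imp μ_mem fun h => by
    rw [single_eq, ← μ_xor]; exact μ_mem h)
  rw [μ_xor, map_add] at this
  rw [← add_zero (Co.mk (μ a)), ← map_zero Co.mk, ← W_add_self (μ b), map_add, ← add_assoc, this, zero_add]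

/-- the functional defined by a word of the code module -/
noncomputable def dotCo (v : W) (hv : v ∈ cdS) : Co →+ ZMod 2 :=
  QuotientAddGroup.lift coK.toAddSubgroup
    (AddMonoidHom.mk' (fun w : W => ∑ i, v i * w i) fun a b => by simp [mul_add, sum_add_distrib]) (by
      rintro w (h | h)
      · exact dot_eq_zero hv.1 h
      · have h1 := dot_eq_zero hv.1 h
        have h2 : v none = 0 := hv.2
        simpa [mul_add, sum_add_distrib, Pi.single_apply, h2] using h1)

theorem basCo : Bas 11 eCo := by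
  refine Bas.of_dual (by norm_num) (fun v => ?_) (fun k => dotCo _ (bm_mem k)) fun k hk j hj => ?_
  · obtain ⟨w, rfl⟩ := v.surj
    rw [← ind_support₂ w]
    induction support₂ w using Finset.induction_on with
    | empty => exact ⟨0, by rw [dec2_zero, ← ofMask_zero]; exact (congrArg Co.mk μ_zero).trans (map_zero _)⟩
    | insert p s hp ih =>
      obtain ⟨x, hx⟩ := ih
      have h1 : insert p s = symmDiff {p} s := by
        ext q; simp only [mem_insert, mem_symmDiff, mem_singleton]; aesop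
      have h2 := mk_eq_of_eqCo (of_allLT (n := 24) (f := fun i => eqCo (2 ^ i)
        (encL um ((2 ^ i ^^^ cw (2 ^ i % 4096)) >>> 12))) (by decide +kernel) (ix_lt p))
      refine ⟨((2 ^ ix p ^^^ cw (2 ^ ix p % 4096)) >>> 12) ^^^ x, ?_⟩
      rw [dec2_xor (fun v => by rw [← two_smul (ZMod 2) v, show (2 : ZMod 2) = 0 from rfl, zero_smul]),
        dec_Co, ← h2, ← hx, h1, ind_symmDiff, map_add, μ, ofMask_two_pow]
  · change ∑ i, μ _ i * μ _ i = _
    have h : ∀ k < 11, bm.getD k 0 < 2 ^ 24 ∧ ∀ j < 11, pc (bm.getD k 0 &&& um.getD j 0) = if k = j then 1 else 0 := by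
      decide +kernel
    rw [dot_eq_card_inter, μ, μ, support₂_ind, support₂_ind, card_inter_ofMask (h k hk).1, (h k hk).2 j hj]
    split_ifs <;> rfl

/-- the columns `M` give the action of the permutation with code `a` -/
noncomputable def actCo (a : ℕ) (M : List ℕ) : Bool :=
  band (ok2 11 M) (allLt (fun k => eqCo (img a (Comput.nth 0 um k)) (encL um (Comput.nth 0 M k))) 11)

theorem act_Co {σ : M23} {M : List ℕ} (h : actCo (code σ) M = true) : Act2 11 eCo M σ := by
  obtain ⟨h1, h2⟩ := band_eq_true.1 h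
  refine ⟨(ok2_sound h1).1, (ok2_sound h1).2, fun k hk => Eq.trans ?_ (dec_Co _).symm⟩
  have := mk_eq_of_eqCo (allLt_sound h2 k hk)
  rw [nth_eq_getD, nth_eq_getD] at this
  rw [← this, ← μ_comp]
  rfl

/-! ### letters -/

theorem exists_letters {L : List ℕ} (h : Comput.allL (inStab [] [23]) L = true) :
    ∃ g : ℕ → M23, ∀ m, code (g m) = Mathieu.nth L m := by
  choose g h1 h2 using has_nth (H := M23) fun a ha => has_M23 (allL_sound h a ha)
  exact ⟨fun m => ⟨g m, h1 m⟩, h2⟩

theorem nth_eq (L : List ℕ) (m : ℕ) : Mathieu.nth L m = L.getD m idc := by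
  induction L generalizing m with
  | nil => rfl
  | cons a L ih =>
    cases m with
    | zero => rfl
    | succ m => exact ih m

theorem wm_letters {L : List ℕ} {g : ℕ → M23} (h : ∀ m, code (g m) = Mathieu.nth L m) :
    WM g (fun m => comp (Mathieu.nth L m)) idc :=
  ⟨⟨fun x a => code a = x, code_one, fun m x a ha => by rw [← h, ← ha, ← code_mul]; rfl,
    fun _ _ _ ha hb => Subtype.ext (code_injective (ha.trans hb.symm))⟩⟩

theorem actL_letters {V : Type*} [AddCommGroup V] [DistribMulAction M23 V] {e : ℕ → V} {t : ℕ → List ℕ → Bool}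
    (ht : ∀ {σ : M23} {M : List ℕ}, t (code σ) M = true → Act2 11 e M σ) {L : List ℕ} {g : ℕ → M23}
    (h : ∀ m, code (g m) = Mathieu.nth L m) {ML : List (List ℕ)} (hl : L.length = ML.length)
    (hc : allLt (fun m => t (Mathieu.nth L m) (Comput.nth [] ML m)) ML.length = true) : ActL (Act2 11 e) ML g := by
  refine ⟨fun m hm => ht ?_, fun m hm => Subtype.ext (code_eq_idc.1 ?_)⟩
  · have := allLt_sound hc m hm
    rwa [nth_eq_getD, List.getD_eq_getElem _ _ hm, ← h] at this
  · rw [h, nth_eq, List.getD_eq_default _ _ (hl ▸ hm)]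

theorem rules_letters {L : List ℕ} {g : ℕ → M23} (h : ∀ m, code (g m) = Mathieu.nth L m) {RL : List (ℕ × ℕ)}
    {nr : ℕ} (hc : allLt (fun r => eqChk (fun m => comp (Mathieu.nth L m)) idc
      ([(Comput.nth (0, 0) RL r).1], [(Comput.nth (0, 0) RL r).2])) nr = true) :
    ∀ r < nr, ev g (Comput.nth (0, 0) RL r).1 = ev g (Comput.nth (0, 0) RL r).2 := fun r hr =>
  (evL_one _ _).symm.trans (((wm_letters h).holds (allLt_sound hc r hr)).trans (evL_one _ _))

theorem card_letters {T : List ℕ} {g : ℕ → M23} (h : ∀ m, code (g m) = Mathieu.nth (syl23 ++ T) m) :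
    2 ^ 7 ≤ Nat.card (Subgroup.closure {a | ∃ j < 7, g j = a}) := by
  rw [← card_syl23, ← Subgroup.card_map_of_injective (f := M23.subtype) Subtype.val_injective]
  refine Subgroup.card_le_of_le ((Subgroup.closure_le _).2 fun a ha => ?_)
  obtain ⟨j, hj, e⟩ := List.getElem_of_mem (ha : code a ∈ syl23)
  refine ⟨g j, Subgroup.subset_closure ⟨j, hj, rfl⟩, code_injective ?_⟩
  rw [← e, Subgroup.subtype_apply, h, nth_eq, List.getD_append _ _ _ _ hj, List.getD_eq_getElem _ _ hj]

/-! ### the extensions of the statements -/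

variable {E : Type*} [Group E] (N : Subgroup E) [hN : N.Normal] (φ : E ⧸ N ≃* M23)

/-- the projection -/
def prj : E →* M23 := φ.toMonoidHom.comp (QuotientGroup.mk' N)

theorem ker_prj : (prj N φ).ker = N := by
  ext a
  rw [MonoidHom.mem_ker, ← QuotientGroup.eq_one_iff]
  exact φ.map_eq_one_iff

theorem exists_Cd (ψ : Additive N →+ W) (hinj : Function.Injective ψ)
    (hrange : ∀ w : W, w ∈ Set.range ψ ↔ (w ∈ golayCode ∧ w none = 0))
    (hψ : ∀ (g : E) (n : N), ψ (Additive.ofMul ⟨g * n * g⁻¹, hN.conj_mem n n.2 g⟩)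
      = ψ (Additive.ofMul n) ∘ ⇑(((φ (QuotientGroup.mk g) : M23) : P24)⁻¹)) :
    ∃ ι : Multiplicative Cd →* E, MExt ι (prj N φ) := by
  let ψ' : Additive N ≃+ Cd := AddEquiv.ofBijective (ψ.codRestrict cdS fun n => (hrange _).1 ⟨n, rfl⟩)
    ⟨fun a b h => hinj (congrArg Subtype.val h), fun v => by
      obtain ⟨n, hn⟩ := (hrange v.1).2 v.2
      exact ⟨n, Subtype.ext hn⟩⟩
  refine ⟨MonoidHom.mk' (fun v => ((ψ'.symm v.toAdd).toMul : N)) fun a b => by simp,
    φ.surjective.comp (QuotientGroup.mk'_surjective N), fun a b h => ?_, fun a => ?_, fun a v => ?_⟩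
  · exact ψ'.symm.injective (Subtype.ext h)
  · rw [← MonoidHom.mem_ker, ker_prj]
    exact ⟨fun h => ⟨ψ' (Additive.ofMul ⟨a, h⟩), by simp⟩, fun ⟨v, hv⟩ => hv ▸ (ψ'.symm v).toMul.2⟩
  · obtain ⟨n, rfl⟩ := ψ'.surjective v
    have h : prj N φ a • ψ' n = ψ' (Additive.ofMul ⟨a * n.toMul * a⁻¹, hN.conj_mem _ n.toMul.2 a⟩) :=
      Subtype.ext (hψ a n.toMul).symm
    rw [h]
    simp

theorem exists_Co (θ : W →+ Additive N) (hsurj : Function.Surjective θ)
    (hker : ∀ w : W, θ w = 0 ↔ (w ∈ golayCode ∨ w + Pi.single none 1 ∈ golayCode))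
    (hθ : ∀ (g : E) (w : W), ((θ (w ∘ ⇑(((φ (QuotientGroup.mk g) : M23) : P24)⁻¹))).toMul : E)
      = g * ((θ w).toMul : E) * g⁻¹) :
    ∃ ι : Multiplicative Co →* E, MExt ι (prj N φ) := by
  let θ' : Co →+ Additive N := QuotientAddGroup.lift coK.toAddSubgroup θ fun w h => (hker w).2 h
  refine ⟨MonoidHom.mk' (fun v => ((θ' v.toAdd).toMul : N)) fun a b => by simp,
    φ.surjective.comp (QuotientGroup.mk'_surjective N), (injective_iff_map_eq_one _).2 fun a h => ?_,
    fun a => ?_, fun a v => ?_⟩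
  · obtain ⟨w, hw⟩ := Co.surj a.toAdd
    have h1 : θ' a.toAdd = 0 := Subtype.ext h
    rw [← hw] at h1
    exact hw.symm.trans (Co.mk_eq_zero.2 ((hker w).1 h1))
  · rw [← MonoidHom.mem_ker, ker_prj]
    refine ⟨fun h => ?_, fun ⟨v, hv⟩ => hv ▸ (θ' v).toMul.2⟩
    obtain ⟨w, hw⟩ := hsurj (Additive.ofMul ⟨a, h⟩)
    exact ⟨Co.mk w, congrArg (fun z : Additive N => (z.toMul : E)) hw⟩
  · obtain ⟨w, rfl⟩ := Co.surj v
    exact eq_mul_of_mul_inv_eq (hθ a w).symm

end CfsgLib.MultC.H2
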