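import Mathlib
import Cfsg.Agent.Lib.MultC.ModExt2
import Cfsg.Agent.Lib.MultC.MathieuLink
import Cfsg.Agent.Lib.MultC.H2.Mod
import Cfsg.Agent.Lib.MultC.H2.ExtD
import Cfsg.Agent.Lib.MultC.M23.C.Main

/-! A non-split extension of the cocode module by `M23`, inside the functions on the code module extended by `M23`. -/

set_option autoImplicit false
set_option maxRecDepth 100000

namespace CfsgLib.MultC.H2.Ext

open CfsgLib.Comput CfsgLib.MultC.ModExt CfsgLib.Golay CfsgLib.Mathieu Cfsg Cfsg.Spor Finset Multiplicative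
open SemidirectProduct

/-- the functions on the code module -/
def Q : Type := Cd → ZMod 2

instance : AddCommGroup Q := inferInstanceAs (AddCommGroup (Cd → ZMod 2))
instance : Finite Cd := inferInstanceAs (Finite cdS)
instance : Finite Q := inferInstanceAs (Finite (Cd → ZMod 2))

instance : DistribMulAction M23 Q where
  smul σ f := fun v => f (σ⁻¹ • v)
  one_smul f := funext fun v => congrArg f (by rw [inv_one, one_smul])
  mul_smul a b f := funext fun v => congrArg f (by rw [mul_inv_rev, mul_smul])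
  smul_zero _ := rfl
  smul_add _ _ _ := rfl

/-- the cocode module consists of the linear functions -/
noncomputable def Θ : Co →+ Q where
  toFun c v := dotCo v.1 v.2 c
  map_zero' := funext fun _ => map_zero _
  map_add' _ _ := funext fun _ => map_add _ _ _

theorem Θ_mk (w : W) (v : Cd) : Θ (Co.mk w) v = ∑ i, v.1 i * w i := rfl

theorem Θ_smul (a : M23) (c : Co) : Θ (a • c) = a • Θ c := by
  obtain ⟨w, rfl⟩ := c.surj
  funext v
  change ∑ i, v.1 i * w ((a : P24)⁻¹ i) = ∑ i, v.1 (((a⁻¹ : M23) : P24)⁻¹ i) * w i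
  rw [← Equiv.sum_comp (a : P24)]
  simp

theorem Θ_inj : Function.Injective Θ := by
  refine (injective_iff_map_eq_zero _).2 fun c h => ?_
  obtain ⟨w, rfl⟩ := c.surj
  have h1 : ∀ v ∈ cdS, ∑ i, v i * w i = 0 := fun v hv => congrFun h ⟨v, hv⟩
  have ho : μ (2 ^ 24 - 1) ∈ golayCode := μ_mem (by decide +kernel)
  have hn : μ (2 ^ 24 - 1) none = 1 := by rw [← pt_23, μ_pt _ (by norm_num)]; rfl
  have h2 : ∀ v ∈ golayCode, ∑ i, v i * w i = v none * ∑ i, μ (2 ^ 24 - 1) i * w i := fun v hv => by
    have := h1 (v - v none • μ (2 ^ 24 - 1)) ⟨sub_mem hv (Submodule.smul_mem _ _ ho), by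
      change v none - v none * μ (2 ^ 24 - 1) none = 0
      rw [hn, mul_one, sub_self]⟩
    simpa [sub_mul, mul_assoc, ← mul_sum, sub_eq_zero] using this
  refine Co.mk_eq_zero.2 ?_
  rcases zmod2_eq_zero_or_one (∑ i, μ (2 ^ 24 - 1) i * w i) with h3 | h3
  · exact Or.inl (mem_golayCode_of_orth fun v hv => by rw [h2 v hv, h3, mul_zero])
  · refine Or.inr (mem_golayCode_of_orth fun v hv => ?_)
    simp only [Pi.add_apply, mul_add, sum_add_distrib, h2 v hv, h3, Pi.single_apply]
    simpa using CharTwo.add_self_eq_zero (v none)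

/-- the code words, numbered -/
noncomputable def ptC (i : ℕ) : Cd := dec2 11 eCd i 0

theorem Θ_e {b : ℕ} (hb : b < 11) (v : Cd) : Θ (eCo b) v = v.1 (pt (12 + b)) := by
  have h : um.getD b 0 = 2 ^ ix (pt (12 + b)) := by revert b; decide +kernel
  rw [eCo, Θ_mk, h, μ, ofMask_two_pow]
  simp [ind]

theorem ptC_apply {b : ℕ} (hb : b < 11) (i : ℕ) : (ptC i).1 (pt (12 + b)) = if i.testBit b then 1 else 0 := by
  have h := map_dec2 ((Pi.evalAddMonoidHom (fun _ => ZMod 2) (pt (12 + b))).comp Cd.val) 11 eCd i 0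
  have h2 : ∀ k < 11, μ (bm.getD k 0) (pt (12 + b)) = if k = b then 1 else 0 := fun k hk => by
    rw [μ_pt _ (by omega)]
    clear h
    revert k b
    decide +kernel
  refine h.trans ?_
  rw [dec2, sum_eq_single b]
  · simp only [Nat.zero_mul, Nat.zero_add]
    split_ifs
    · exact (h2 b hb).trans (if_pos rfl)
    · rfl
  · intro k hk hkb
    split_ifs
    · exact (h2 k (mem_range.1 hk)).trans (if_neg hkb)
    · rfl
  · intro h; exact absurd (mem_range.2 hb) h

theorem eq_of_bits {i j : ℕ} (hi : i < 2048) (hj : j < 2048)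
    (h : ∀ b < 11, (ptC i).1 (pt (12 + b)) = (ptC j).1 (pt (12 + b))) : i = j := by
  refine Nat.eq_of_testBit_eq fun b => ?_
  by_cases hb : b < 11
  · have := h b hb
    rw [ptC_apply hb, ptC_apply hb] at this
    revert this
    cases i.testBit b <;> cases j.testBit b <;> simp
  · have h1 : 2048 ≤ 2 ^ b := Nat.pow_le_pow_right (n := 2) (by norm_num) (not_lt.1 hb)
    rw [Nat.testBit_lt_two_pow (by omega), Nat.testBit_lt_two_pow (by omega)]

theorem exists_ptC (v : Cd) : ∃ i < 2048, ptC i = v := by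
  obtain ⟨x, rfl⟩ := basCd.span v
  refine ⟨x % 2 ^ 11, Nat.mod_lt _ (by norm_num), ?_⟩
  unfold ptC dec2
  refine sum_congr rfl fun k hk => ?_
  rw [Nat.testBit_mod_two_pow, decide_eq_true (by simpa using hk), Bool.true_and]

/-- the number of a code word -/
noncomputable def idx (v : Cd) : ℕ := (exists_ptC v).choose

theorem idx_ptC {i : ℕ} (hi : i < 2048) : idx (ptC i) = i :=
  eq_of_bits (exists_ptC _).choose_spec.1 hi fun _ _ =>
    congrFun (congrArg Subtype.val (exists_ptC _).choose_spec.2) _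

/-- the function with a given table -/
noncomputable def dec (x : ℕ) : Q := fun v => if x.testBit (idx v) then 1 else 0

theorem Q_ext {f f' : Q} (h : ∀ i < 2048, f (ptC i) = f' (ptC i)) : f = f' := funext fun v => by
  obtain ⟨i, hi, rfl⟩ := exists_ptC v
  exact h i hi

theorem dec_zero : dec 0 = 0 := funext fun v => by simp [dec]; rfl

theorem dec_xor (a b : ℕ) : dec (a ^^^ b) = dec a + dec b := funext fun v => by
  change _ = dec a v + dec b v
  simp only [dec, Nat.testBit_xor]
  cases a.testBit (idx v) <;> cases b.testBit (idx v) <;> rfl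

theorem dec2_dec (l : List ℕ) (x : ℕ) : dec2 l.length (fun k => dec (l.getD k 0)) x 0 = dec (encL l x) := by
  induction l generalizing x with
  | nil => rw [encL_nil, dec_zero]; rfl
  | cons b l ih =>
    rw [encL_cons, dec_xor, ← ih, dec2, dec2, List.length_cons, sum_range_succ', add_comm]
    congr 1
    · rw [Nat.and_one_is_mod, Nat.zero_mul, Nat.testBit_zero]
      rcases Nat.mod_two_eq_zero_or_one x with h | h <;> simp [h, dec_zero]
    · refine sum_congr rfl fun k _ => ?_
      simp only [Nat.testBit_shiftRight, Nat.zero_mul, Nat.zero_add, add_comm 1 k, List.getD_cons_succ]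

theorem Θ_eCo {b : ℕ} (hb : b < 11) : Θ (eCo b) = dec (col 2048 b) := Q_ext fun i hi => by
  rw [Θ_e hb, ptC_apply hb, dec, idx_ptC hi, testBit_col, decide_eq_true hi, Bool.true_and]

theorem Θ_dec2 (z : ℕ) : Θ (dec2 11 eCo z 0) = dec (encL cols z) := by
  have h : ∀ k < 11, col 2048 k = cols.getD k 0 := by decide +kernel
  rw [map_dec2, ← dec2_dec]
  refine sum_congr rfl fun k hk => ?_
  dsimp only
  rw [Θ_eCo (mem_range.1 hk), h k (mem_range.1 hk)]
  rfl

/-- the network computes the action with matrix `M` on the cocode -/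
noncomputable def netOK (N : Net) (M : List ℕ) : Bool :=
  band (N.ok 2048) (allLt (fun b => Nat.beq (N.app (col 2048 b)) (encL cols (Comput.nth 0 M b))) 11)

theorem dec_app {N : Net} {M : List ℕ} {σ : M23} (hM : Act2 11 eCo M σ) (h : netOK N M = true) (x : ℕ) :
    dec (N.app x) = σ • dec x := by
  obtain ⟨h1, h2⟩ := band_eq_true.1 h
  have h1' := Net.ok_sound h1
  refine Q_ext fun i hi => ?_
  obtain ⟨j, hj, e⟩ := exists_ptC (σ⁻¹ • ptC i)
  have h3 : j = N.fn i := eq_of_bits hj (Net.fn_lt h1' hi) fun b hb => by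
    have h4 := Nat.eq_of_beq_eq_true (allLt_sound h2 b hb)
    have h5 : Θ (eCo b) (σ⁻¹ • ptC i) = Θ (σ • eCo b) (ptC i) := (congrFun (Θ_smul σ _) _).symm
    rw [e, ← Θ_e hb, h5, hM.2.2 b hb, Θ_dec2, ← nth_eq_getD, ← h4, dec, idx_ptC hi, Net.testBit_app h1',
      testBit_col, decide_eq_true (Net.fn_lt h1' hi), Bool.true_and, ptC_apply hb]
  change _ = dec x (σ⁻¹ • ptC i)
  rw [← e, dec, dec, idx_ptC hi, idx_ptC hj, Net.testBit_app h1', h3]

theorem ex : ∃ g : ℕ → M23, ∀ m, code (g m) = Mathieu.nth L m := exists_letters (by decide +kernel)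

/-- the letters -/
noncomputable def g : ℕ → M23 := ex.choose

theorem hL : ActL (Act2 11 eCo) ML g := actL_letters act_Co ex.choose_spec rfl (by decide +kernel)

theorem g_one (m : ℕ) (hm : 23 ≤ m) : g m = 1 := hL.2 m hm

theorem dec_step (m x : ℕ) : dec (stepN W2 m x) = g m • dec x := by
  by_cases hm : m < 23
  · have h := allLt_sound (show allLt (fun m => netOK (Comput.nth Net.nil W2 m) (Comput.nth [] ML m)) 23 = true by
      decide +kernel) m hm
    rw [nth_eq_getD [], List.getD_eq_getElem _ _ hm] at h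
    exact dec_app (hL.1 m hm) h x
  · rw [g_one m (by omega), one_smul, stepN, nth_eq_getD, List.getD_eq_default _ _ (not_lt.1 hm)]
    rfl

theorem acts (m : ℕ) : Acts 24 pt (Comput.nth Net.nil M23.C.W m) (g m) := by
  by_cases hm : m < 23
  · have h := allLt_sound (show allLt (fun m => codeOK (Comput.nth Net.nil M23.C.W m) (Mathieu.nth L m)) 23 = true by
      decide +kernel) m hm
    rw [← ex.choose_spec] at h
    exact acts_of_pointwise (app (code (g m : P24))) (fun i hi => apply_pt _ hi) h
  · rw [g_one m (by omega), nth_eq_getD, List.getD_eq_default _ _ (not_lt.1 hm)]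
    exact Acts.nil _ _

/-- the lifted letters -/
noncomputable def y (m : ℕ) : SD M23 Q := inl (ofAdd (dec (Comput.nth 0 S m))) * inr (g m)

/-- the difference of the values of two words -/
noncomputable def dif (l l' : List ℕ) : ℕ :=
  Nat.xor (actL (fun m T => Nat.xor (Comput.nth 0 S m) (stepN W2 m T)) l 0)
    (actL (fun m T => Nat.xor (Comput.nth 0 S m) (stepN W2 m T)) l' 0)

theorem rel {l l' : List ℕ} {z : ℕ} (h1 : Comput.evL g l = Comput.evL g l')
    (h2 : Nat.beq (dif l l') (encL cols z) = true) :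
    Comput.evL y l = inV M23 Θ (ofAdd (dec2 11 eCo z 0)) * Comput.evL y l' := by
  have h3 := fun l => evL_SD dec_zero dec_xor dec_step (Comput.nth 0 S) l
  change _ = inl (ofAdd (Θ (dec2 11 eCo z 0))) * _
  unfold y
  rw [h3, h3, h1, Θ_dec2, ← Nat.eq_of_beq_eq_true h2, ← mul_assoc, ← map_mul, ← ofAdd_add, ← dec_xor]
  congr 4
  exact (Nat.xor_xor_cancel_right _ _).symm

/-- the equation holds modulo the cocode -/
noncomputable def eqK (e : Eqn) : Bool :=
  force (dif e.1 e.2) fun D => Nat.beq D (encL cols (Nat.rec 0 (fun k ih =>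
    Nat.add ih (Nat.shiftLeft (Nat.land (Nat.shiftRight D (Nat.pow 2 k)) 1) k)) 11))

instance : (inV M23 Θ).range.Normal := normal_inV Θ_smul

theorem allHold {l : List Eqn} (h1 : AllHold g l) (h2 : Comput.allL eqK l = true) :
    AllHold (fun m => (g m, QuotientGroup.mk' (inV M23 Θ).range (y m))) l := by
  refine h1.prod fun e he => ?_
  have h3 := allL_sound h2 e he
  rw [eqK, force_eq] at h3
  change Comput.evL _ _ = Comput.evL _ _
  rw [← map_evL, ← map_evL, rel (h1 e he) h3, map_mul]
  exact mul_eq_right.2 ((QuotientGroup.eq_one_iff _).2 ⟨_, rfl⟩)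

open M23.C in
theorem exists_nonsplit : ∃ (E : Subgroup (SD M23 Q)) (ι : Multiplicative Co →* E) (π : E →* M23), MExt ι π ∧
    ∀ H : Subgroup E, H ⊓ π.ker = ⊥ → H ⊔ π.ker ≠ ⊤ := by
  have PM : PModel M23 24 pt := pModel_P24.subgroup _
  have E1 : Eqs g := eqs_of_WM (PM.wm acts (by norm_num))
  have E2 : Eqs (fun m => (g m, QuotientGroup.mk' (inV M23 Θ).range (y m))) :=
    { l5 := allHold E1.l5 (by decide +kernel)
      x5 := allHold E1.x5 (by decide +kernel)
      l4 := allHold E1.l4 (by decide +kernel)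
      x4 := allHold E1.x4 (by decide +kernel)
      l3 := allHold E1.l3 (by decide +kernel)
      x3 := allHold E1.x3 (by decide +kernel)
      l2 := allHold E1.l2 (by decide +kernel)
      x2 := allHold E1.x2 (by decide +kernel)
      l1 := allHold E1.l1 (by decide +kernel)
      x1 := allHold E1.x1 (by decide +kernel)
      l0 := allHold E1.l0 (by decide +kernel)
      x0 := allHold E1.x0 (by decide +kernel)
      xd := allHold E1.xd (by decide +kernel) }
  have h1 : cl g top = ⊤ := eq_top_of_card (card (PM.sm acts) E1) card_M23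
  let _ := fstAction M23 (SD M23 Q ⧸ (inV M23 Θ).range) GolayPt
  obtain ⟨ρ, hρ⟩ := exists_hom_of_card h1 ((card (sm_prod _ (PM.sm acts)) E2).trans card_M23.symm)
  have hy : ∀ m, 23 ≤ m → y m = 1 := fun m hm => by
    rw [y, g_one m hm, nth_eq_getD, List.getD_eq_default _ _ hm, dec_zero, ofAdd_zero, map_one, map_one, one_mul]
  obtain ⟨E, ι, π, x, X, h2, h3, h4⟩ := exists_ext Θ_inj Θ_smul h1 (y := y) (fun m => one_mul _) ρ fun m => by
    by_cases hm : m < 23
    · exact hρ _ (inA_top E2 m (by revert m; decide))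
    · rw [g_one m (by omega), hy m (by omega), map_one, map_one]
  refine ⟨E, ι, π, X, X.not_split basCo hL h2 (nl := 23) (fun m hm => Subtype.ext ((h3 m).trans (hy m hm)))
    (l := NS) (fun c hc => Subtype.ext ?_) (by decide +kernel) (by decide +kernel)⟩
  have h5 := band_eq_true.1 (allL_sound (show Comput.allL (fun c : ℕ × ℕ × ℕ × ℕ => band
    (eqChk (fun m => comp (Mathieu.nth L m)) idc ([c.1], [c.2.1]))
    (Nat.beq (dif [c.1] [c.2.1]) (encL cols c.2.2.1))) NS = true by decide +kernel) c hc)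
  have h6 := rel ((wm_letters ex.choose_spec).holds h5.1) h5.2
  have h7 : ∀ w, (ev x w).1 = ev y w := fun w => (map_ev E.subtype x w).trans (by rw [← funext h3]; rfl)
  rw [evL_one, evL_one] at h6
  rw [Subgroup.coe_mul, h7, h7, h4, h6]

end CfsgLib.MultC.H2.Ext
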